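import Cfsg.Agent.H273.EPU.PSpFour
import Cfsg.Agent.H957.EP.InfNeBot
import Cfsg.Agent.H936.DSClass
import Cfsg.Agent.H173.EP.LineBound
import Cfsg.Agent.H59.EP.UB
import Cfsg.Agent.S0814

/-!
# S3499, own characteristic: `PSp₄(q)`, `q` odd, is too small for `PΩ₁₀^±(q)` (helper273, task 6156)

`own` : `EPT A Γ`, `soc(A) = PSp₄(q)`, `q` odd, contradict `q ^ 45 ≤ 8 |Q|`.
-/

set_option autoImplicit false

namespace Cfsg.Agent.H273.EPU

open Subgroup Cfsg Cfsg.Agent.H284 Cfsg.Agent.H419.EP Cfsg.Agent.H59.EP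

section num

theorem sq_le_pow {p f : ℕ} (hp : 3 ≤ p) : f ^ 2 ≤ p ^ f := by
  refine le_trans ?_ (Nat.pow_le_pow_left hp f)
  induction f with
  | zero => norm_num
  | succ f ih =>
    have e : 3 ^ (f + 1) = 3 ^ f * 3 := pow_succ 3 f
    rw [e]
    rcases Nat.lt_or_ge f 2 with h | h
    · interval_cases f <;> norm_num
    · nlinarith

/-- the numbers, general form -/
theorem num_gen {a c n : ℕ} (hn : n ≤ a * (1 + c * (2 * (a / 6)))) : 3 * n ≤ 3 * a + c * a ^ 2 := by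
  have h2 : 6 * (a / 6) ≤ a := Nat.mul_div_le a 6
  calc 3 * n ≤ 3 * (a * (1 + c * (2 * (a / 6)))) := Nat.mul_le_mul_left _ hn
    _ = 3 * a + c * a * (6 * (a / 6)) := by ring
    _ ≤ 3 * a + c * a * a := Nat.add_le_add_left (Nat.mul_le_mul_left _ h2) _
    _ = _ := by ring

/-- the numbers, `q = 3` -/
theorem num_three {a n : ℕ} (ha : a ≤ 51840) (hn : 3 * n ≤ 3 * a + 218123863200 * a ^ 2) (hq : 3 ^ 45 ≤ 8 * n) :
    False := by
  have h1 : a ^ 2 ≤ 51840 ^ 2 := Nat.pow_le_pow_left ha 2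
  norm_num at h1 hq
  omega

/-- the numbers, `q = 5` -/
theorem num_five {a c n : ℕ} (ha : a ≤ 5 ^ 10) (hc : 240 * c ≤ (61 * 5 ^ 4 + 1920 * (5 + 1) ^ 6) * 5 ^ 16)
    (hn : 3 * n ≤ 3 * a + c * a ^ 2) (hq : 5 ^ 45 ≤ 8 * n) : False := by
  have h1 : a ^ 2 ≤ (5 ^ 10) ^ 2 := Nat.pow_le_pow_left ha 2
  have h2 : (240 * c) * a ^ 2 ≤ ((61 * 5 ^ 4 + 1920 * (5 + 1) ^ 6) * 5 ^ 16) * (5 ^ 10) ^ 2 := Nat.mul_le_mul hc h1
  have h3 : 720 * n ≤ 720 * a + (240 * c) * a ^ 2 := by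
    calc 720 * n = 240 * (3 * n) := by ring
      _ ≤ 240 * (3 * a + c * a ^ 2) := Nat.mul_le_mul_left _ hn
      _ = _ := by ring
  norm_num at h1 h2 h3 hq ha
  omega

/-- the numbers, `q ≥ 7` -/
theorem num_seven {q f a c n : ℕ} (h7 : 7 ≤ q) (hf : f ^ 2 ≤ q) (ha : a ≤ f * q ^ 10)
    (hc : 240 * c ≤ (61 * q ^ 4 + 1920 * (q + 1) ^ 6) * q ^ 16) (hn : 3 * n ≤ 3 * a + c * a ^ 2)
    (hq : q ^ 45 ≤ 8 * n) : False := by
  have h1 : a ^ 2 ≤ q ^ 21 := by
    calc a ^ 2 ≤ (f * q ^ 10) ^ 2 := Nat.pow_le_pow_left ha 2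
      _ = f ^ 2 * q ^ 20 := by ring
      _ ≤ q * q ^ 20 := Nat.mul_le_mul_right _ hf
      _ = _ := by ring
  have h2 : 117649 * (q + 1) ^ 6 ≤ 262144 * q ^ 6 := by
    calc 117649 * (q + 1) ^ 6 = (7 * (q + 1)) ^ 6 := by ring
      _ ≤ (8 * q) ^ 6 := Nat.pow_le_pow_left (by omega) 6
      _ = _ := by ring
  have h4 : 49 * q ^ 4 ≤ q ^ 6 := by
    calc 49 * q ^ 4 = 7 ^ 2 * q ^ 4 := by norm_num
      _ ≤ q ^ 2 * q ^ 4 := Nat.mul_le_mul_right _ (Nat.pow_le_pow_left h7 2)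
      _ = _ := by ring
  have h5 : 61 * q ^ 4 + 1920 * (q + 1) ^ 6 ≤ 4280 * q ^ 6 := by omega
  have h6 : (240 * c) * a ^ 2 ≤ 4280 * q ^ 43 := by
    calc (240 * c) * a ^ 2 ≤ ((4280 * q ^ 6) * q ^ 16) * q ^ 21 :=
          Nat.mul_le_mul (hc.trans (Nat.mul_le_mul_right _ h5)) h1
      _ = _ := by ring
  have h7' : 16807 * a ≤ q ^ 43 := by
    have h8 : a ≤ a ^ 2 := Nat.le_self_pow (by norm_num) a
    calc 16807 * a ≤ 7 ^ 5 * q ^ 21 := by
          norm_num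
          exact h8.trans h1
      _ ≤ q ^ 5 * q ^ 21 := Nat.mul_le_mul_right _ (Nat.pow_le_pow_left h7 5)
      _ = q ^ 26 := by ring
      _ ≤ q ^ 43 := Nat.pow_le_pow_right (by omega) (by norm_num)
  have h9 : 49 * q ^ 43 ≤ q ^ 45 := by
    calc 49 * q ^ 43 = 7 ^ 2 * q ^ 43 := by norm_num
      _ ≤ q ^ 2 * q ^ 43 := Nat.mul_le_mul_right _ (Nat.pow_le_pow_left h7 2)
      _ = _ := by ring
  have h10 : 720 * n ≤ 720 * a + (240 * c) * a ^ 2 := by
    calc 720 * n = 240 * (3 * n) := by ring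
      _ ≤ 240 * (3 * a + c * a ^ 2) := Nat.mul_le_mul_left _ hn
      _ = _ := by ring
  have h11 : 0 < q ^ 43 := by positivity
  omega

end num

variable {F : Type} [Field F] [Fintype F]

/-- `|Aut PSp₄(q)|` -/
theorem card_mulAut_psp4 {p f : ℕ} (hp : p.Prime) (hf : f ≠ 0) (hF : Fintype.card F = p ^ f) (hodd : Odd (Fintype.card F)) :
    Nat.card (MulAut (PSp 2 F)) ≤ 2 * f * Nat.card (PSp 2 F) := by
  have : Fact p.Prime := ⟨hp⟩
  have h1 : 1 < Fintype.card F := Fintype.one_lt_card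
  have h2 : 3 ≤ Fintype.card F := by
    obtain ⟨u, hu⟩ := hodd
    omega
  rw [Cfsg.Agent.S0814.result (F := F) p f (by omega) hF 2 le_rfl (fun _ => hF ▸ h2)]
  have hp2 : p ≠ 2 := by
    rintro rfl
    rw [hF] at hodd
    exact absurd hodd (Nat.not_odd_iff_even.2 (Nat.even_pow.2 ⟨even_two, hf⟩))
  rw [if_neg (fun h => hp2 h.2), one_mul]
  exact Nat.mul_le_mul_right _ (Nat.mul_le_mul_right _ (Nat.gcd_le_left _ (by norm_num)))

/-- **own characteristic**: `PSp₄(q)`, `q` odd, is too small -/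
theorem own {Q : Type*} [Group Q] [Finite Q] (hs : IsSimpleGroup Q) {A : Subgroup Q} {Γ : Subgroup (MulAut Q)}
    (h : EPT A Γ) (hg : TwoGen.{0})
    (hFT : ∀ (T : Type) [Group T] [Finite T], IsSimpleGroup T → (¬ ∀ a b : T, a * b = b * a) → 2 ∣ Nat.card T)
    (hodd : Odd (Fintype.card F)) (hS : HasSoc A (PSp 2 F)) (hcard : Fintype.card F ^ 45 ≤ 8 * Nat.card Q) : False := by
  have hL := isSimple_psp4 (F := F) hodd
  have hnc := not_comm_psp4 (F := F) hodd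
  have h3 : 3 ≤ Fintype.card F := by
    have h1 : 1 < Fintype.card F := Fintype.one_lt_card
    obtain ⟨u, hu⟩ := hodd
    omega
  have hr := Cfsg.Agent.H957.EP.ncard_le_locK_hasSoc h hS hL hnc
    (Cfsg.Agent.H936.ds_psp (F := F) (m := 2) le_rfl (fun _ => by rw [Nat.card_eq_fintype_card]; exact h3))
  have hab : ∀ K : Subgroup Q, K ≤ A → (∀ a ∈ A, ∀ k ∈ K, a * k * a⁻¹ ∈ K) → (∀ a ∈ K, ∀ b ∈ K, a * b = b * a) →
      K = ⊥ := fun K hK hn hc => HasSoc.no_abelian hS hL hnc hK hn hc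
  have h1 := Cfsg.Agent.H173.EP.ub1 hs h (by norm_num) (fun _ hx => EPT.six_le h hab hx)
  have h2 : Nat.card Q ≤ Nat.card A * (1 + (LocK (PSp 2 F)).ncard * (2 * (Nat.card A / 6))) := by
    rw [← A.card_mul_index]
    exact Nat.mul_le_mul_left _ (h1.trans (Nat.add_le_add_left (Nat.mul_le_mul_right _ hr) _))
  have h4 := num_gen h2
  have hA := HasSoc.card_le hS
  obtain ⟨p, f, u, hp, hf, hpf, hu, hu1, hc⟩ := setting hodd
  have hA2 := hA.trans (card_mulAut_psp4 hp hf hpf hodd)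
  have hN := card_PSp_four_le (F := F) hodd
  have hA3 : Nat.card A ≤ f * Fintype.card F ^ 10 := by
    refine hA2.trans ?_
    calc 2 * f * Nat.card (PSp 2 F) = f * (2 * Nat.card (PSp 2 F)) := by ring
      _ ≤ _ := Nat.mul_le_mul_left _ hN
  have hp3 : 3 ≤ p := by
    have h2 := hp.two_le
    rcases Nat.lt_or_ge 2 p with h | h
    · exact h
    · have : p = 2 := by omega
      rw [hpf, this] at hodd
      exact absurd hodd (Nat.not_odd_iff_even.2 ((Nat.even_pow.2 ⟨even_two, hf⟩)))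
  have hf2 : f ^ 2 ≤ Fintype.card F := by
    rw [hpf]
    exact sq_le_pow hp3
  have hcl := ncard_psp4_le' (F := F) hodd hg hFT
  rcases Nat.lt_or_ge (Fintype.card F) 7 with h7 | h7
  · -- `q = 3, 5`
    have h35 : Fintype.card F = 3 ∨ Fintype.card F = 5 := by omega
    have hf1 : f = 1 := by
      have h8 : f ≤ 2 := by nlinarith
      have h9 : f ≠ 2 := by
        rintro rfl
        rw [hpf] at h7
        nlinarith
      omega
    subst hf1
    rcases h35 with h35 | h35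
    · have hc3 := ncard_psp4_three (F := F) h35 hg hFT
      have hN3 := card_PSp_four (F := F) (u := 1) (by rw [h35])
      norm_num at hN3
      rw [hN3] at hA2
      rw [h35] at hcard
      refine num_three (a := Nat.card A) (n := Nat.card Q) (by omega) ?_ hcard
      exact h4.trans (Nat.add_le_add_left (Nat.mul_le_mul_right _ hc3) _)
    · rw [h35] at hcard hcl hA3
      exact num_five (by rwa [one_mul] at hA3) hcl h4 hcard
  · exact num_seven h7 hf2 hA3 hcl h4 hcard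

end Cfsg.Agent.H273.EPU
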