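import Cfsg.Agent.H273.EPU.PType
import Cfsg.Agent.H59.EP.CountG

/-!
# S3499, the number of members of `LocK L` (helper273)

`ncard_locK_le_of` : at most `D` members with `O_p ≠ 1`, elementary abelian `s`-subgroups (`s ≠ p`) of order at most
`s ^ k`, nonabelian characteristically simple subgroups simple: then
`|LocK L| ≤ D + (∑_{s ≠ p} (|L|_s) ^ k) * (|L| / 2) + |L| ^ 2 / 60`.
-/

set_option autoImplicit false
set_option linter.unusedSectionVars false

namespace Cfsg.Agent.H273.EPU

open Subgroup Cfsg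
open Cfsg.Agent.H59.EP
open scoped commutatorElement

/-- a group of exponent `s` and order at most `s ^ k` has `k` generators -/
theorem exists_gen {E : Type*} [Group E] [Finite E] {s : ℕ} (hs : s.Prime) (hexp : ∀ a : E, a ^ s = 1) {k : ℕ}
    (hk : Nat.card E ≤ s ^ k) : ∃ f : Fin k → E, closure (Set.range f) = ⊤ := by
  have : Fact s.Prime := ⟨hs⟩
  have hp : IsPGroup s E := fun a => ⟨1, by rw [pow_one, hexp]⟩
  have key : ∀ j : ℕ, ∃ f : Fin j → E, closure (Set.range f) = ⊤ ∨ s ^ j ≤ Nat.card (closure (Set.range f)) := by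
    intro j
    induction j with
    | zero => exact ⟨Fin.elim0, Or.inr (by rw [pow_zero]; exact Nat.card_pos)⟩
    | succ j ih =>
      obtain ⟨f, hf⟩ := ih
      rcases hf with hf | hf
      · refine ⟨Fin.snoc f 1, Or.inl ?_⟩
        rw [eq_top_iff, ← hf]
        refine Subgroup.closure_mono ?_
        rintro _ ⟨i, rfl⟩
        exact ⟨i.castSucc, by rw [Fin.snoc_castSucc]⟩
      · by_cases ht : closure (Set.range f) = ⊤
        · refine ⟨Fin.snoc f 1, Or.inl ?_⟩
          rw [eq_top_iff, ← ht]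
          refine Subgroup.closure_mono ?_
          rintro _ ⟨i, rfl⟩
          exact ⟨i.castSucc, by rw [Fin.snoc_castSucc]⟩
        · obtain ⟨x, hx⟩ : ∃ x, x ∉ closure (Set.range f) := by
            by_contra hcon
            push Not at hcon
            exact ht ((Subgroup.eq_top_iff' _).2 hcon)
          refine ⟨Fin.snoc f x, Or.inr ?_⟩
          have hle : closure (Set.range f) ≤ closure (Set.range (Fin.snoc f x : Fin (j + 1) → E)) := by
            refine Subgroup.closure_mono ?_
            rintro _ ⟨i, rfl⟩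
            exact ⟨i.castSucc, by rw [Fin.snoc_castSucc]⟩
          have hx' : x ∈ closure (Set.range (Fin.snoc f x : Fin (j + 1) → E)) :=
            Subgroup.subset_closure ⟨Fin.last j, by rw [Fin.snoc_last]⟩
          obtain ⟨a, ha⟩ := (IsPGroup.iff_card.1 (hp.to_subgroup (closure (Set.range f))))
          obtain ⟨b, hb⟩ := (IsPGroup.iff_card.1 (hp.to_subgroup (closure (Set.range (Fin.snoc f x : Fin (j + 1) → E)))))
          have hlt : a < b := by
            by_contra hlt
            push Not at hlt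
            have h1 : Nat.card (closure (Set.range (Fin.snoc f x : Fin (j + 1) → E))) ≤
                Nat.card (closure (Set.range f)) := by
              rw [ha, hb]
              exact Nat.pow_le_pow_right hs.pos hlt
            have h2 := Subgroup.eq_of_le_of_card_ge hle h1
            rw [← h2] at hx'
            exact hx hx'
          rw [hb]
          rw [ha] at hf
          have h3 : j ≤ a := (Nat.pow_le_pow_iff_right hs.one_lt).1 hf
          exact Nat.pow_le_pow_right hs.pos (by omega)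
  obtain ⟨f, hf⟩ := key k
  refine ⟨f, ?_⟩
  rcases hf with hf | hf
  · exact hf
  · apply Subgroup.eq_top_of_card_eq
    exact le_antisymm (Subgroup.card_le_card_group _) (hk.trans hf)

variable {L : Type*} [Group L] [Finite L]

/-- the elementary abelian subgroups of `P` -/
theorem ncard_elab_le_pow {s : ℕ} (hs : s.Prime) {k : ℕ} (hk : ∀ E : Subgroup L, ElAb s E → Nat.card E ≤ s ^ k)
    (P : Subgroup L) : {E : Subgroup L | E ≤ P ∧ ElAb s E ∧ E ≠ ⊥}.ncard ≤ Nat.card P ^ k := by
  have hsub : {E : Subgroup L | E ≤ P ∧ ElAb s E ∧ E ≠ ⊥} ⊆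
      Set.range fun f : Fin k → P => closure (Set.range fun i => (f i : L)) := by
    rintro E ⟨hEP, hE, _⟩
    obtain ⟨f, hf⟩ := exists_gen hs (fun a : E => Subtype.ext (hE.exp a a.2)) (hk E hE)
    refine ⟨fun i => ⟨f i, hEP (f i).2⟩, ?_⟩
    have h1 : (Set.range fun i => ((f i : E) : L)) = E.subtype '' Set.range f := by
      rw [← Set.range_comp]
      rfl
    show closure (Set.range fun i => ((f i : E) : L)) = E
    rw [h1, ← MonoidHom.map_closure, hf, ← MonoidHom.range_eq_map, E.range_subtype]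
  refine (Set.ncard_le_ncard hsub (Set.toFinite _)).trans ?_
  rw [← Set.image_univ]
  refine (Set.ncard_image_le (Set.toFinite _)).trans ?_
  rw [Set.ncard_univ, Nat.card_fun, Nat.card_eq_fintype_card (α := Fin k), Fintype.card_fin]

/-- the elementary abelian subgroups with normaliser of index at most `c` -/
theorem ncard_elab_class_le_pow {s : ℕ} (hs : s.Prime) {k : ℕ} (hk : ∀ E : Subgroup L, ElAb s E → Nat.card E ≤ s ^ k)
    {c : ℕ} : {X : Subgroup L | ElAb s X ∧ X ≠ ⊥ ∧ (normalizer (X : Set L)).index ≤ c}.ncard ≤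
      (s ^ (Nat.card L).factorization s) ^ k * c := by
  have : Fact s.Prime := ⟨hs⟩
  let P : Sylow s L := default
  have hP : Nat.card (P : Subgroup L) = s ^ (Nat.card L).factorization s := P.card_eq_multiplicity
  rw [← hP]
  refine le_trans (ncard_le_mul (𝓔 := {E : Subgroup L | E ≤ (P : Subgroup L) ∧ ElAb s E ∧ E ≠ ⊥}) ?_
    (fun X hX => hX.2.2)) (Nat.mul_le_mul_right _ (ncard_elab_le_pow hs hk P))
  rintro X ⟨h1, h2, _⟩
  have hps : IsPGroup s X := by
    rintro ⟨y, hy⟩
    refine ⟨1, Subtype.ext ?_⟩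
    rw [pow_one]
    exact h1.exp y hy
  obtain ⟨R, hR⟩ := hps.exists_le_sylow
  obtain ⟨g, hg⟩ := MulAction.exists_smul_eq L R P
  refine ⟨X.map (MulAut.conj g).toMonoidHom, ⟨?_, ⟨?_, ?_⟩, ?_⟩, g⁻¹, ?_⟩
  · rw [← hg, Sylow.coe_subgroup_smul]
    rintro _ ⟨x, hx, rfl⟩
    exact Subgroup.smul_mem_pointwise_smul _ _ _ (hR hx)
  · rintro _ ⟨a, ha, rfl⟩ _ ⟨b, hb, rfl⟩
    rw [← map_mul, ← map_mul, h1.comm a ha b hb]
  · rintro _ ⟨a, ha, rfl⟩
    rw [← map_pow, h1.exp a ha, map_one]
  · intro e
    rw [Subgroup.map_eq_bot_iff_of_injective _ (MulAut.conj g).injective] at e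
    exact h2 e
  · rw [Subgroup.map_map]
    conv_lhs => rw [← Subgroup.map_id X]
    congr 1
    ext y
    show y = g⁻¹ * (g * y * g⁻¹) * g⁻¹⁻¹
    group

theorem mem_normalizer_of {X : Subgroup L} {b : L} (h : ∀ k ∈ X, b * k * b⁻¹ ∈ X) : b ∈ normalizer (X : Set L) := by
  have h1 : X.map (MulAut.conj b).toMonoidHom = X := by
    apply Subgroup.eq_of_le_of_card_ge
    · rintro _ ⟨k, hk, rfl⟩
      exact h k hk
    · exact (Nat.card_congr (X.equivMapOfInjective _ (MulAut.conj b).injective).toEquiv).le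
  rw [mem_normalizer_iff]
  intro k
  refine ⟨h k, fun hk => ?_⟩
  rw [← h1] at hk
  obtain ⟨y, hy, e⟩ := hk
  have e' : b * y * b⁻¹ = b * k * b⁻¹ := e
  have : y = k := mul_left_cancel (mul_right_cancel e')
  rw [← this]
  exact hy

/-- **the number of members of `LocK L`** -/
theorem ncard_locK_le_of {L : Type} [Group L] [Finite L] {p : ℕ} [Fact p.Prime] {D : ℕ}
    (hD : {K ∈ LocK L | pCore p K ≠ ⊥}.ncard ≤ D) (hg : TwoGen.{0}) {k : ℕ}
    (hk : ∀ s, s.Prime → s ≠ p → ∀ E : Subgroup L, ElAb s E → Nat.card E ≤ s ^ k)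
    (hsimp : ∀ X : Subgroup L, X ≠ ⊥ → (∀ Y : Subgroup X, Y.Characteristic → Y = ⊥ ∨ Y = ⊤) →
      (¬ ∀ a b : X, a * b = b * a) → IsSimpleGroup X) :
    (LocK L).ncard ≤ D + ((∑ s ∈ (Nat.card L).primeFactors.erase p, (s ^ (Nat.card L).factorization s) ^ k) *
      (Nat.card L / 2) + Nat.card L ^ 2 / 60) := by
  classical
  have hsplit : LocK L ⊆ {K ∈ LocK L | pCore p K ≠ ⊥} ∪ {K ∈ LocK L | pCore p K = ⊥} := by
    intro K hK
    by_cases h : pCore p K = ⊥
    · exact Or.inr ⟨hK, h⟩
    · exact Or.inl ⟨hK, h⟩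
  refine (Set.ncard_le_ncard hsplit (Set.toFinite _)).trans ((Set.ncard_union_le _ _).trans (Nat.add_le_add hD ?_))
  have key : ∀ M ∈ {K ∈ LocK L | pCore p K = ⊥}, ∃ X : Subgroup L, normalizer (X : Set L) = M ∧
      ((∃ s ∈ (Nat.card L).primeFactors.erase p, ElAb s X ∧ X ≠ ⊥) ∨
        ((IsSimpleGroup X ∧ ¬ Group.IsSolvable X) ∧ ∃ a b : X, closure ({a, b} : Set X) = ⊤)) := by
    rintro M ⟨hM, hMp⟩
    obtain ⟨X, h1, h2, h3, h4⟩ := exists_key hM.1 (fun K hK hK0 b hb => hM.2 K hK hK0 (mem_normalizer_of hb))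
    refine ⟨X, h1, ?_⟩
    have hXn : Nontrivial X := (Subgroup.nontrivial_iff_ne_bot X).2 h3
    by_cases hcomm : ∀ a b : X, a * b = b * a
    · left
      obtain ⟨s, hs, hsd, hel⟩ := elab_of_comm h4 hcomm
      have hE : ElAb s X := by
        constructor
        · intro a ha b hb
          exact Subtype.ext_iff.1 (hel.comm ⟨a, ha⟩ (mem_top _) ⟨b, hb⟩ (mem_top _))
        · intro a ha
          exact Subtype.ext_iff.1 (hel.exp ⟨a, ha⟩ (mem_top _))
      have hXB : Nat.card X ∣ Nat.card L := Subgroup.card_subgroup_dvd_card X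
      refine ⟨s, Finset.mem_erase.2 ⟨?_, Nat.mem_primeFactors.2 ⟨hs, hsd.trans hXB, Nat.card_pos.ne'⟩⟩, hE, h3⟩
      rintro rfl
      -- `X` is a normal `p`-subgroup of `M`
      have hn : (X.subgroupOf M).Normal := by
        constructor
        intro y hy m
        rw [mem_subgroupOf] at hy ⊢
        have hm : (m : L) ∈ normalizer (X : Set L) := by rw [h1]; exact m.2
        exact (mem_normalizer_iff.1 hm _).1 hy
      have hpg : IsPGroup s (X.subgroupOf M) := by
        intro y
        refine ⟨1, Subtype.ext (Subtype.ext ?_)⟩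
        rw [pow_one]
        exact hE.exp _ y.2
      have h5 : X.subgroupOf M ≤ pCore s M := by
        rw [Cfsg.Agent.Lib.Cores.pCore_def]
        exact le_sSup (show X.subgroupOf M ∈ {N : Subgroup M | N.Normal ∧ IsPGroup s N} from ⟨hn, hpg⟩)
      rw [hMp, le_bot_iff, Subgroup.subgroupOf_eq_bot, disjoint_iff, inf_eq_left.2 h2] at h5
      exact h3 h5
    · right
      have hs := hsimp X h3 h4 hcomm
      refine ⟨⟨hs, ?_⟩, ?_⟩
      · intro hsol
        have h5 : commutator X < ⊤ := Group.IsSolvable.commutator_lt_top_of_nontrivial X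
        rcases hs.eq_bot_or_eq_top_of_normal (commutator X) inferInstance with h6 | h6
        · apply hcomm
          intro a b
          have h7 : ⁅a, b⁆ ∈ commutator X := commutator_mem_commutator (mem_top _) (mem_top _)
          rw [h6, mem_bot, commutatorElement_eq_one_iff_mul_comm] at h7
          exact h7
        · exact h5.ne h6
      · exact hg X
  choose! f hf1 hf2 using key
  have hinj : Set.InjOn f {K ∈ LocK L | pCore p K = ⊥} := by
    intro M hM N hN e
    rw [← hf1 M hM, ← hf1 N hN, e]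
  rw [← hinj.ncard_image]
  have hidx : ∀ M ∈ LocK L, M.index ≤ Nat.card L / 2 := by
    intro M hM
    rw [Nat.le_div_iff_mul_le (by norm_num), ← M.card_mul_index, mul_comm]
    refine Nat.mul_le_mul_right _ ?_
    have : Nontrivial M := (Subgroup.nontrivial_iff_ne_bot M).2 hM.1
    exact Finite.one_lt_card
  have hsub : f '' {K ∈ LocK L | pCore p K = ⊥} ⊆ (⋃ s ∈ (Nat.card L).primeFactors.erase p,
      {X : Subgroup L | ElAb s X ∧ X ≠ ⊥ ∧ (normalizer (X : Set L)).index ≤ Nat.card L / 2}) ∪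
      {X : Subgroup L | (IsSimpleGroup X ∧ ¬ Group.IsSolvable X) ∧ ∃ a b : X, closure ({a, b} : Set X) = ⊤} := by
    rintro _ ⟨M, hM, rfl⟩
    rcases hf2 M hM with ⟨s, hs, h1, h2⟩ | h
    · left
      simp only [Set.mem_iUnion]
      exact ⟨s, hs, h1, h2, by rw [hf1 M hM]; exact hidx M hM.1⟩
    · right
      exact h
  refine (Set.ncard_le_ncard hsub (Set.toFinite _)).trans ((Set.ncard_union_le _ _).trans (Nat.add_le_add ?_ ?_))
  · have hun : ∀ I : Finset ℕ, (⋃ s ∈ I, {X : Subgroup L | ElAb s X ∧ X ≠ ⊥ ∧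
        (normalizer (X : Set L)).index ≤ Nat.card L / 2}).ncard ≤
        ∑ s ∈ I, {X : Subgroup L | ElAb s X ∧ X ≠ ⊥ ∧ (normalizer (X : Set L)).index ≤ Nat.card L / 2}.ncard := by
      intro I
      induction I using Finset.induction_on with
      | empty => simp
      | insert j I hj ih =>
        rw [Finset.sum_insert hj, Finset.set_biUnion_insert]
        exact (Set.ncard_union_le _ _).trans (Nat.add_le_add_left ih _)
    refine (hun _).trans ?_
    rw [Finset.sum_mul]
    refine Finset.sum_le_sum fun s hs => ?_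
    obtain ⟨hsp, hs'⟩ := Finset.mem_erase.1 hs
    have hsP := Nat.prime_of_mem_primeFactors hs'
    exact ncard_elab_class_le_pow hsP (hk s hsP hsp)
  · exact ncard_simple_le (fun X hX => hX.1) (fun X hX => hX.2)

end Cfsg.Agent.H273.EPU
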