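import Cfsg.Agent.LieClassical.OmegaFive
import Cfsg.Agent.LieClassical.SympCenter
import Cfsg.Agent.S0270
import Cfsg.Agent.S5914
import Cfsg.Agent.H273.EPU.CommFive
import Cfsg.Agent.SigZeroU5.Lin
import Cfsg.Agent.H59.EP.CountG

/-!
# S3499, `PSp₄(q)`, `q` odd, acts on the orthogonal 5-space (helper273)

`rhoP` : the injection `PSp₄(q) → End(F^5)`; `card_elab_le` : elementary abelian `s`-subgroups, `s ≠ p`, have order at
most `s ^ 4`; `simple_of_char` : nonabelian characteristically simple subgroups are simple.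
-/

set_option autoImplicit false
set_option linter.unusedSectionVars false

namespace Cfsg.Agent.H273.EPU

open Subgroup Cfsg Module
open Cfsg.Agent.H59.EP
open Cfsg.Agent.LieClassical.CliffordFive

section Lin

variable {F : Type} [Field F] {V : Type} [AddCommGroup V] [Module F V] [FiniteDimensional F V]
variable {L : Type} [Group L] [Finite L] {ρ : L →* End F V}

theorem det_eq_one [IsSimpleGroup L] (hnc : ¬ ∀ a b : L, a * b = b * a) (x : L) : LinearMap.det (ρ x) = 1 := by
  have h := hom_comm_trivial hnc ((LinearMap.det : End F V →* F).comp ρ).toHomUnits x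
  have h1 := congrArg Units.val h
  exact h1

/-- elementary abelian `s`-subgroups -/
theorem card_elab_le [IsSimpleGroup L] (hnc : ¬ ∀ a b : L, a * b = b * a) (hinj : Function.Injective ρ) {n : ℕ}
    (hV : finrank F V = n + 1) {s : ℕ} (hs : s.Prime) (hsF : (s : F) ≠ 0) {E : Subgroup L} (hE : ElAb s E) :
    Nat.card E ≤ s ^ n := by
  let : CommGroup E := { (inferInstance : Group E) with
    mul_comm := fun a b => Subtype.ext (hE.comm a a.2 b b.2) }
  refine Cfsg.Agent.SigZeroU5.card_le_pow_det hs hsF n V hV E (fun a => Subtype.ext (hE.exp a a.2))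
    (ρ.comp E.subtype) (hinj.comp E.subtype_injective) (fun a => ?_)
  exact det_eq_one hnc (a : L)

/-- nonabelian characteristically simple subgroups are simple -/
theorem simple_of_char (h2 : (2 : F) ≠ 0) (h5 : finrank F V ≤ 5) (hinj : Function.Injective ρ)
    (hFT : ∀ (T : Type) [Group T] [Finite T], IsSimpleGroup T → (¬ ∀ a b : T, a * b = b * a) → 2 ∣ Nat.card T)
    {X : Subgroup L} (hX : X ≠ ⊥) (hc : ∀ Y : Subgroup X, Y.Characteristic → Y = ⊥ ∨ Y = ⊤)
    (hnc : ¬ ∀ a b : X, a * b = b * a) : IsSimpleGroup X := by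
  have hXn : Nontrivial X := (Subgroup.nontrivial_iff_ne_bot X).2 hX
  obtain ⟨T, hT1, hT2, n, hn, ⟨e⟩⟩ := Cfsg.Agent.S5914.result.1 hc
  have h0 : 0 < n := by omega
  have hTf : Finite T := Finite.of_injective (fun t : T => e.symm (Pi.mulSingle ⟨0, h0⟩ t)) fun t s h =>
    Pi.mulSingle_injective _ (e.symm.injective h)
  have hTc : ¬ ∀ a b : T, a * b = b * a := by
    intro h
    apply hnc
    intro a b
    apply e.injective
    rw [map_mul, map_mul]
    ext i
    exact h _ _
  rcases Nat.lt_or_ge n 2 with hn2 | hn2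
  · obtain rfl : n = 1 := by omega
    let E : T ≃* X := (MulEquiv.piUnique (fun _ : Fin 1 => T)).symm.trans e.symm
    exact E.symm.isSimpleGroup
  exfalso
  -- the factors
  let f : Fin n → T →* L := fun i => X.subtype.comp (e.symm.toMonoidHom.comp (MonoidHom.mulSingle (fun _ : Fin n => T) i))
  have hf : ∀ i, Function.Injective (f i) := fun i =>
    X.subtype_injective.comp (e.symm.injective.comp (fun a b h => by
      have := congrFun h i
      simpa using this))
  have hcomm : ∀ i j, i ≠ j → ∀ x ∈ (f i).range, ∀ y ∈ (f j).range, x * y = y * x := by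
    rintro i j hij _ ⟨a, rfl⟩ _ ⟨b, rfl⟩
    show X.subtype (e.symm (Pi.mulSingle i a)) * X.subtype (e.symm (Pi.mulSingle j b)) =
      X.subtype (e.symm (Pi.mulSingle j b)) * X.subtype (e.symm (Pi.mulSingle i a))
    have hc : (Pi.mulSingle i a * Pi.mulSingle j b : Fin n → T) = Pi.mulSingle j b * Pi.mulSingle i a :=
      (Pi.mulSingle_commute (f := fun _ : Fin n => T) hij a b).eq
    rw [← map_mul, ← map_mul, ← map_mul, ← map_mul, hc]
  have hsim : ∀ i, IsSimpleGroup (f i).range := fun i => (MonoidHom.ofInjective (hf i)).symm.isSimpleGroup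
  have hnc' : ∀ i, ¬ ∀ a b : (f i).range, a * b = b * a := by
    intro i h
    apply hTc
    intro a b
    apply (MonoidHom.ofInjective (hf i)).injective
    rw [map_mul, map_mul]
    exact h _ _
  have : Fact (Nat.Prime 2) := ⟨Nat.prime_two⟩
  obtain ⟨t, ht⟩ := exists_prime_orderOf_dvd_card' 2 (hFT T hT2 hTc)
  have ht1 : t ≠ 1 := by
    rintro rfl
    rw [orderOf_one] at ht
    omega
  have htt : t * t = 1 := by
    rw [← pow_two, ← ht]
    exact pow_orderOf_eq_one t
  have hne : ∀ i, f i t ≠ 1 := fun i h => ht1 (hf i (h.trans (map_one _).symm))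
  refine no_comm_five (ρ := ρ) h2 h5 hinj (hsim ⟨0, by omega⟩) (hnc' _) (hsim ⟨1, by omega⟩) (hnc' _)
    (hcomm _ _ ?_) ⟨t, rfl⟩ (hne _) ?_ ⟨t, rfl⟩ (hne _) ?_
  · intro h
    simp at h
  · rw [← map_mul, htt, map_one]
  · rw [← map_mul, htt, map_one]

end Lin

section PSp

variable {F : Type} [Field F]

/-- `Sp₄` on the orthogonal 5-space -/
noncomputable def rho0 (h2 : (2 : F) ≠ 0) : Matrix.symplecticGroup (Fin 2) F →* End F (I5 → F) :=
  ((Matrix.toLinAlgEquiv' : Matrix I5 I5 F ≃ₐ[F] ((I5 → F) →ₗ[F] (I5 → F))) : Matrix I5 I5 F →* ((I5 → F) →ₗ[F] (I5 → F))).comp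
    ((Units.coeHom (Matrix I5 I5 F)).comp ((Cfsg.isometryGroup F (Cfsg.quadFormOdd 2 F)).subtype.comp (rho h2)))

theorem rho0_apply (h2 : (2 : F) ≠ 0) (g : Matrix.symplecticGroup (Fin 2) F) (v : I5 → F) :
    rho0 h2 g v = ((rho h2 g : Matrix.GeneralLinearGroup I5 F) : Matrix I5 I5 F).mulVec v := rfl

theorem rho0_eq_one (h2 : (2 : F) ≠ 0) {g : Matrix.symplecticGroup (Fin 2) F}
    (hg : g ∈ Subgroup.center (Matrix.symplecticGroup (Fin 2) F)) : rho0 h2 g = 1 := by
  obtain ⟨a, ha⟩ := (Cfsg.Agent.LieClassical.SympCenter.mem_center_iff 2 g).1 hg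
  have ha1 : a * a = 1 := Cfsg.Agent.LieClassical.SympCenter.sq_eq_one_of_smul_mem (m := 2) (by norm_num) (ha ▸ g.2)
  refine LinearMap.ext fun v => ?_
  rw [rho0_apply, Module.End.one_apply]
  apply cl_injective
  have h := cl_rho_mulVec h2 g v
  rw [ha, Matrix.mul_smul, Matrix.mul_one, Matrix.smul_mul, Matrix.one_mul] at h
  have h3 := congrArg (fun M => a • M) h
  simp only [smul_smul, ha1, one_smul] at h3
  exact h3

theorem mem_center_of_rho0 (h2 : (2 : F) ≠ 0) {g : Matrix.symplecticGroup (Fin 2) F} (hg : rho0 h2 g = 1) :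
    g ∈ Subgroup.center (Matrix.symplecticGroup (Fin 2) F) := by
  apply mem_center_of_rho h2
  have h1 : rho h2 g = 1 := by
    apply Subtype.ext
    apply Units.ext
    apply Matrix.toLin'.injective
    refine LinearMap.ext fun v => ?_
    have := congrArg (fun f : End F (I5 → F) => f v) hg
    simp only [rho0_apply, Module.End.one_apply] at this
    rw [Matrix.toLin'_apply, this]
    simp
  intro h
  rw [h1, one_mul, mul_one]

/-- `PSp₄` on the orthogonal 5-space -/
noncomputable def rhoP (h2 : (2 : F) ≠ 0) : PSp 2 F →* End F (I5 → F) :=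
  QuotientGroup.lift (Subgroup.center (Matrix.symplecticGroup (Fin 2) F)) (rho0 h2) (fun _ hg => rho0_eq_one h2 hg)

theorem rhoP_injective (h2 : (2 : F) ≠ 0) : Function.Injective (rhoP h2) := by
  rw [injective_iff_map_eq_one]
  intro x hx
  obtain ⟨g, rfl⟩ := QuotientGroup.mk_surjective x
  exact (QuotientGroup.eq_one_iff g).2 (mem_center_of_rho0 h2 hx)

theorem finrank_five : finrank F (I5 → F) = 5 := by
  rw [Module.finrank_pi]
  rfl

end PSp

end Cfsg.Agent.H273.EPU
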