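import Cfsg.Agent.H273.EPU.Own
import Cfsg.Agent.H621.EP.OrdO
import Cfsg.Agent.S0293
import Cfsg.Agent.S0294

/-!
# S3499, own characteristic: `PSp₄(q)`, `q` odd, in `PΩ₁₀^±(q)` (helper273, task 6156)

`own_plus` / `hown_plus` (`H281.EP.row_of`), `own_minus` / `ownTen` (`H621.EP.OwnTen`), with the hypotheses `TwoGen` (`S3948`) and `hFT` (Feit–Thompson, `S0205`).
-/

set_option autoImplicit false
set_option linter.unusedSectionVars false

namespace Cfsg.Agent.H273.EPU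

open Subgroup Cfsg Cfsg.Agent.H284 Cfsg.Agent.H419.EP Cfsg.Agent.H59.EP
open scoped commutatorElement

theorem ten_num {q g n X : ℕ} (hq : 3 ≤ q) (hg : g ≤ 4) (hX : 242 * q ^ 5 ≤ 243 * X)
    (h : g * n = q ^ 20 * X * ((q ^ 2 - 1) * (q ^ 4 - 1) * (q ^ 6 - 1) * (q ^ 8 - 1))) : q ^ 45 ≤ 8 * n := by
  have e2 : 8 * q ^ 2 ≤ 9 * (q ^ 2 - 1) := by
    have : 3 ^ 2 ≤ q ^ 2 := Nat.pow_le_pow_left hq 2
    norm_num at this
    omega
  have e4 : 80 * q ^ 4 ≤ 81 * (q ^ 4 - 1) := by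
    have : 3 ^ 4 ≤ q ^ 4 := Nat.pow_le_pow_left hq 4
    norm_num at this
    omega
  have e6 : 728 * q ^ 6 ≤ 729 * (q ^ 6 - 1) := by
    have : 3 ^ 6 ≤ q ^ 6 := Nat.pow_le_pow_left hq 6
    norm_num at this
    omega
  have e8 : 6560 * q ^ 8 ≤ 6561 * (q ^ 8 - 1) := by
    have : 3 ^ 8 ≤ q ^ 8 := Nat.pow_le_pow_left hq 8
    norm_num at this
    omega
  have h1 : (242 * 8 * 80 * 728 * 6560) * q ^ 45 ≤ (243 * 9 * 81 * 729 * 6561) * (4 * n) := by
    calc (242 * 8 * 80 * 728 * 6560) * q ^ 45 =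
        q ^ 20 * (242 * q ^ 5) * ((8 * q ^ 2) * (80 * q ^ 4) * (728 * q ^ 6) * (6560 * q ^ 8)) := by ring
      _ ≤ q ^ 20 * (243 * X) * ((9 * (q ^ 2 - 1)) * (81 * (q ^ 4 - 1)) * (729 * (q ^ 6 - 1)) * (6561 * (q ^ 8 - 1))) := by
          gcongr
      _ = (243 * 9 * 81 * 729 * 6561) * (g * n) := by rw [h]; ring
      _ ≤ _ := Nat.mul_le_mul_left _ (Nat.mul_le_mul_right _ hg)
  norm_num at h1
  omega

variable {Q : Type*} [Group Q] [Finite Q] {A : Subgroup Q} {Γ : Subgroup (MulAut Q)}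
  {F : Type} [Field F] [Fintype F] {Qf : (Fin 10 → F) → F}

theorem card_ge_plus (m : Model Q (Cfsg.Geo.omegaGL Qf)) (hQ : Cfsg.Geo.IsNondegenerateQuadraticForm Qf)
    (hplus : Cfsg.Geo.IsPlusTypeOn Qf ⊤) (hq : 3 ≤ Fintype.card F) : Fintype.card F ^ 45 ≤ 8 * Nat.card Q := by
  obtain ⟨e⟩ := Cfsg.Agent.H621.EP.model_plus hQ (m := 5) (by norm_num) (by simp) hplus m
  have h := Cfsg.Agent.S0293.result (F := F) rfl 5 (by norm_num)
  rw [← Nat.card_congr e.toEquiv] at h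
  simp only [Finset.prod_range_succ, Finset.prod_range_zero, Nat.reduceSub, Nat.reduceMul, Nat.reduceAdd,
    one_mul, zero_add, mul_one] at h
  refine ten_num hq (Nat.gcd_le_left _ (by norm_num)) ?_ h
  have : 3 ^ 5 ≤ Fintype.card F ^ 5 := Nat.pow_le_pow_left hq 5
  norm_num at this
  omega

theorem card_ge_minus (m : Model Q (Cfsg.Geo.omegaGL Qf)) (hQ : Cfsg.Geo.IsNondegenerateQuadraticForm Qf)
    (hminus : ¬ Cfsg.Geo.IsPlusTypeOn Qf ⊤) (hq : 3 ≤ Fintype.card F) : Fintype.card F ^ 45 ≤ 8 * Nat.card Q := by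
  obtain ⟨a, b, hab⟩ := Cfsg.Agent.H955.exists_aniso_coeff F
  obtain ⟨e⟩ := Cfsg.Agent.H621.EP.model_minus hQ (m := 5) (by norm_num) (by simp) hminus m hab
  have h := Cfsg.Agent.S0294.result (F := F) rfl 5 (by norm_num) a b hab
  rw [← Nat.card_congr e.toEquiv] at h
  simp only [Finset.prod_range_succ, Finset.prod_range_zero, Nat.reduceSub, Nat.reduceMul, Nat.reduceAdd,
    one_mul, zero_add, mul_one] at h
  refine ten_num hq (Nat.gcd_le_left _ (by norm_num)) ?_ h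
  omega

theorem three_le (hodd : Odd (Fintype.card F)) : 3 ≤ Fintype.card F := by
  have h1 : 1 < Fintype.card F := Fintype.one_lt_card
  obtain ⟨u, hu⟩ := hodd
  omega

/-- plus type -/
theorem own_plus (hs : IsSimpleGroup Q) (h : EPT A Γ) (hg : TwoGen.{0})
    (hFT : ∀ (T : Type) [Group T] [Finite T], IsSimpleGroup T → (¬ ∀ a b : T, a * b = b * a) → 2 ∣ Nat.card T)
    (m : Model Q (Cfsg.Geo.omegaGL Qf)) (hQ : Cfsg.Geo.IsNondegenerateQuadraticForm Qf)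
    (hplus : Cfsg.Geo.IsPlusTypeOn Qf ⊤) (hodd : Odd (Fintype.card F)) (hS : HasSoc A (PSp 2 F)) : False :=
  own hs h hg hFT hodd hS (card_ge_plus m hQ hplus (three_le hodd))

/-- minus type -/
theorem own_minus (hs : IsSimpleGroup Q) (h : EPT A Γ) (hg : TwoGen.{0})
    (hFT : ∀ (T : Type) [Group T] [Finite T], IsSimpleGroup T → (¬ ∀ a b : T, a * b = b * a) → 2 ∣ Nat.card T)
    (m : Model Q (Cfsg.Geo.omegaGL Qf)) (hQ : Cfsg.Geo.IsNondegenerateQuadraticForm Qf)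
    (hminus : ¬ Cfsg.Geo.IsPlusTypeOn Qf ⊤) (hodd : Odd (Fintype.card F)) (hS : HasSoc A (PSp 2 F)) : False :=
  own hs h hg hFT hodd hS (card_ge_minus m hQ hminus (three_le hodd))

/-- the shape of the hypothesis `hFT`, from Feit–Thompson (`S0205.result`) -/
theorem ft_of (hsol : ∀ (T : Type) [Group T] [Finite T], Odd (Nat.card T) → Group.IsSolvable T) :
    ∀ (T : Type) [Group T] [Finite T], IsSimpleGroup T → (¬ ∀ a b : T, a * b = b * a) → 2 ∣ Nat.card T := by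
  intro T _ _ hT hn
  by_contra h2
  have hsolT := hsol T (by rw [← Nat.not_even_iff_odd, even_iff_two_dvd]; exact h2)
  have h5 : commutator T < ⊤ := Group.IsSolvable.commutator_lt_top_of_nontrivial T
  rcases hT.eq_bot_or_eq_top_of_normal (commutator T) inferInstance with h6 | h6
  · apply hn
    intro a b
    have h7 : ⁅a, b⁆ ∈ commutator T := commutator_mem_commutator (mem_top _) (mem_top _)
    rw [h6, mem_bot, commutatorElement_eq_one_iff_mul_comm] at h7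
    exact h7
  · exact h5.ne h6

/-- the hypothesis `hown` of `H281.EP.row_of` -/
theorem hown_plus (hs : IsSimpleGroup Q) (h : EPT A Γ) (hg : TwoGen.{0})
    (hsol : ∀ (T : Type) [Group T] [Finite T], Odd (Nat.card T) → Group.IsSolvable T)
    (m : Model Q (Cfsg.Geo.omegaGL Qf)) (hQ : Cfsg.Geo.IsNondegenerateQuadraticForm Qf)
    (hplus : Cfsg.Geo.IsPlusTypeOn Qf ⊤) : HasSoc A (PSp 2 F) → Fintype.card F % 4 = 1 → False := fun hS hq =>
  own_plus hs h hg (ft_of hsol) m hQ hplus (Nat.odd_iff.2 (by omega)) hS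

/-- `H621.EP.OwnTen` -/
theorem ownTen (hg : TwoGen.{0}) (hsol : ∀ (T : Type) [Group T] [Finite T], Odd (Nat.card T) → Group.IsSolvable T) :
    ∀ {Q : Type} [Group Q] [Finite Q], IsSimpleGroup Q → ∀ {A : Subgroup Q} {Γ : Subgroup (MulAut Q)}, EPT A Γ →
      ∀ {F : Type} [Field F] [Fintype F] {Qf : (Fin 10 → F) → F} (m : Model Q (Cfsg.Geo.omegaGL Qf)),
      Cfsg.Geo.IsNondegenerateQuadraticForm Qf → ¬ Cfsg.Geo.IsPlusTypeOn Qf ⊤ →
      Cfsg.Geo.InOrthogonalResidualClass (m.hat A) → Fintype.card F % 4 = 3 → HasSoc A (PSp 2 F) → False :=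
  fun hs _ _ h _ _ _ _ m hQ hminus _ hq hS =>
    own_minus hs h hg (ft_of hsol) m hQ hminus (Nat.odd_iff.2 (by omega)) hS

end Cfsg.Agent.H273.EPU
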