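import Cfsg.Agent.LieClassical.SympCount
import Cfsg.Agent.KFacts.RgdFiltClass
import Cfsg.Agent.H273.EPU.Count
import Cfsg.Agent.H273.EPU.Emb

/-!
# S3499, `|LocK PSp₄(q)|`, `q` odd (helper273)

`ncard_psp4_le` (`q ≥ 3`), `ncard_psp4 : |LocK PSp₄(q)| ≤ q ^ 24` (`q ≥ 5`), `ncard_psp4_three` (`q = 3`).
-/

set_option autoImplicit false
set_option linter.unusedSectionVars false

namespace Cfsg.Agent.H273.EPU

section num

/-- prime powers dividing `|PSp₄(q)|`, `q = 2u+1` -/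
theorem pow_le_of_dvd {u s a : ℕ} (hu : 0 < u) (hs : s.Prime) (hsq : Nat.Coprime s (2 * u + 1))
    (h : s ^ a ∣ (2 * u + 1) ^ 4 * (16 * u ^ 2 * (u + 1) ^ 2 * (2 * u ^ 2 + 2 * u + 1))) :
    s ^ a ≤ 4 * (2 * u + 1 + 1) ^ 2 := by
  have h1 : s ^ a ∣ 16 * u ^ 2 * (u + 1) ^ 2 * (2 * u ^ 2 + 2 * u + 1) :=
    Nat.Coprime.dvd_of_dvd_mul_left (Nat.Coprime.pow a 4 hsq) h
  have hB : 4 * (2 * u + 1 + 1) ^ 2 = 16 * (u + 1) ^ 2 := by ring
  rw [hB]
  have hu2 : u ^ 2 ≤ (u + 1) ^ 2 := Nat.pow_le_pow_left (by omega) 2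
  have cop : ∀ x, ¬ s ∣ x → Nat.Coprime (s ^ a) x := fun x hx => Nat.Coprime.pow_left a (hs.coprime_iff_not_dvd.2 hx)
  have cop2 : ∀ x, ¬ s ∣ x → Nat.Coprime (s ^ a) (x ^ 2) := fun x hx => (cop x hx).pow_right 2
  have hmid : 2 * u ^ 2 + 2 * u + 1 = 2 * (u * (u + 1)) + 1 := by ring
  by_cases h2 : s = 2
  · subst h2
    have h3 : 2 ^ a ∣ 16 * u ^ 2 * (u + 1) ^ 2 := Nat.Coprime.dvd_of_dvd_mul_right (cop _ (by omega)) h1
    by_cases hev : 2 ∣ u
    · have h4 : 2 ^ a ∣ 16 * u ^ 2 := Nat.Coprime.dvd_of_dvd_mul_right (cop2 _ (by omega)) h3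
      have h5 := Nat.le_of_dvd (by positivity) h4
      omega
    · have h3' : 2 ^ a ∣ u ^ 2 * (16 * (u + 1) ^ 2) := by
        have e : u ^ 2 * (16 * (u + 1) ^ 2) = 16 * u ^ 2 * (u + 1) ^ 2 := by ring
        rw [e]
        exact h3
      have h4 : 2 ^ a ∣ 16 * (u + 1) ^ 2 := Nat.Coprime.dvd_of_dvd_mul_left (cop2 _ hev) h3'
      exact Nat.le_of_dvd (by positivity) h4
  · have h16 : Nat.Coprime (s ^ a) 16 := by
      refine cop _ ?_
      intro h3
      have h4 : s ∣ 2 ^ 4 := h3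
      exact h2 ((Nat.prime_dvd_prime_iff_eq hs Nat.prime_two).1 (hs.dvd_of_dvd_pow h4))
    have h1' : s ^ a ∣ 16 * (u ^ 2 * ((u + 1) ^ 2 * (2 * u ^ 2 + 2 * u + 1))) := by
      have e : 16 * (u ^ 2 * ((u + 1) ^ 2 * (2 * u ^ 2 + 2 * u + 1))) =
        16 * u ^ 2 * (u + 1) ^ 2 * (2 * u ^ 2 + 2 * u + 1) := by ring
      rw [e]
      exact h1
    have h3 : s ^ a ∣ u ^ 2 * ((u + 1) ^ 2 * (2 * u ^ 2 + 2 * u + 1)) := Nat.Coprime.dvd_of_dvd_mul_left h16 h1'
    have hne : s ∣ u * (u + 1) → ¬ s ∣ 2 * u ^ 2 + 2 * u + 1 := by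
      intro h4 h5
      rw [hmid] at h5
      exact hs.one_lt.ne' (Nat.dvd_one.1 ((Nat.dvd_add_right (h4.mul_left 2)).1 h5))
    by_cases hsu : s ∣ u
    · have h4 : ¬ s ∣ u + 1 := fun h5 => hs.one_lt.ne' (Nat.dvd_one.1 ((Nat.dvd_add_right hsu).1 h5))
      have h5 : s ^ a ∣ u ^ 2 := by
        refine Nat.Coprime.dvd_of_dvd_mul_right ?_ h3
        exact Nat.Coprime.mul_right (cop2 _ h4) (cop _ (hne (hsu.mul_right _)))
      have h6 := Nat.le_of_dvd (by positivity) h5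
      omega
    · have h4 : s ^ a ∣ (u + 1) ^ 2 * (2 * u ^ 2 + 2 * u + 1) := Nat.Coprime.dvd_of_dvd_mul_left (cop2 _ hsu) h3
      by_cases hsu1 : s ∣ u + 1
      · have h5 : s ^ a ∣ (u + 1) ^ 2 := Nat.Coprime.dvd_of_dvd_mul_right (cop _ (hne (hsu1.mul_left _))) h4
        have h6 := Nat.le_of_dvd (by positivity) h5
        omega
      · have h5 : s ^ a ∣ 2 * u ^ 2 + 2 * u + 1 := Nat.Coprime.dvd_of_dvd_mul_left (cop2 _ hsu1) h4
        have h6 := Nat.le_of_dvd (by positivity) h5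
        nlinarith

theorem sum_le_prod_aux {I : Finset ℕ} {f : ℕ → ℕ} (hf : ∀ i ∈ I, 2 ≤ f i) :
    (∑ i ∈ I, f i ≤ ∏ i ∈ I, f i) ∧ (I = ∅ ∨ 2 ≤ ∏ i ∈ I, f i) := by
  induction I using Finset.induction_on with
  | empty => simp
  | insert i I hi ih =>
    rw [Finset.sum_insert hi, Finset.prod_insert hi]
    obtain ⟨h1, h2⟩ := ih (fun j hj => hf j (Finset.mem_insert_of_mem hj))
    have h3 := hf i (Finset.mem_insert_self i I)
    rcases h2 with rfl | h2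
    · simp
      omega
    · constructor
      · nlinarith
      · right
        nlinarith

/-- the Sylow orders -/
theorem sum_sylow_le {N p f B : ℕ} (hN : N ≠ 0) (hp : p.Prime) (hf : f ≠ 0) (hq : (p ^ f) ^ 4 ∣ N)
    (hB : ∀ s, s.Prime → s ≠ p → s ^ N.factorization s ≤ B) :
    (p ^ f) ^ 4 * ∑ s ∈ N.primeFactors.erase p, (s ^ N.factorization s) ^ 4 ≤ B ^ 3 * N := by
  have h1 : ∑ s ∈ N.primeFactors.erase p, (s ^ N.factorization s) ^ 4 ≤
      B ^ 3 * ∏ s ∈ N.primeFactors.erase p, s ^ N.factorization s := by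
    calc ∑ s ∈ N.primeFactors.erase p, (s ^ N.factorization s) ^ 4 ≤
        ∑ s ∈ N.primeFactors.erase p, B ^ 3 * (s ^ N.factorization s) := by
          refine Finset.sum_le_sum fun s hs => ?_
          obtain ⟨h1, h2⟩ := Finset.mem_erase.1 hs
          rw [pow_succ (s ^ N.factorization s) 3]
          exact Nat.mul_le_mul_right _ (Nat.pow_le_pow_left (hB s (Nat.prime_of_mem_primeFactors h2) h1) 3)
      _ = B ^ 3 * ∑ s ∈ N.primeFactors.erase p, (s ^ N.factorization s) := by rw [Finset.mul_sum]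
      _ ≤ _ := by
          refine Nat.mul_le_mul_left _ (sum_le_prod_aux ?_).1
          intro s hs
          obtain ⟨h1, h2⟩ := Finset.mem_erase.1 hs
          have hsp := Nat.prime_of_mem_primeFactors h2
          have h3 : 1 ≤ N.factorization s := (hsp.dvd_iff_one_le_factorization hN).1 (Nat.dvd_of_mem_primeFactors h2)
          calc 2 ≤ s := hsp.two_le
            _ = s ^ 1 := (pow_one s).symm
            _ ≤ _ := Nat.pow_le_pow_right hsp.pos h3
  have hpN : p ∈ N.primeFactors := by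
    refine Nat.mem_primeFactors.2 ⟨hp, ?_, hN⟩
    refine dvd_trans ?_ hq
    rw [← pow_mul]
    exact dvd_pow_self p (by omega)
  have h2 : (∏ s ∈ N.primeFactors.erase p, s ^ N.factorization s) * p ^ N.factorization p = N := by
    rw [Finset.prod_erase_mul _ _ hpN]
    exact Nat.prod_factorization_pow_eq_self hN
  have h3 : (p ^ f) ^ 4 ≤ p ^ N.factorization p := by
    rw [← pow_mul] at hq ⊢
    exact Nat.pow_le_pow_right hp.pos ((hp.pow_dvd_iff_le_factorization hN).1 hq)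
  calc (p ^ f) ^ 4 * ∑ s ∈ N.primeFactors.erase p, (s ^ N.factorization s) ^ 4 ≤
      p ^ N.factorization p * (B ^ 3 * ∏ s ∈ N.primeFactors.erase p, s ^ N.factorization s) := Nat.mul_le_mul h3 h1
    _ = B ^ 3 * ((∏ s ∈ N.primeFactors.erase p, s ^ N.factorization s) * p ^ N.factorization p) := by ring
    _ = _ := by rw [h2]

/-- `q = 3` -/
theorem sum_three : ∑ s ∈ (25920 : ℕ).primeFactors.erase 3, (s ^ (25920 : ℕ).factorization s) ^ 4 ≤ 16777841 := by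
  have hle : ∀ s a b m : ℕ, s.Prime → 25920 = a * b → Nat.Coprime s b → a = m → s ^ (25920 : ℕ).factorization s ≤ m := by
    intro s a b m hs h1 h2 h3
    have h4 : s ^ (25920 : ℕ).factorization s ∣ a * b := by
      rw [← h1]
      exact Nat.ordProj_dvd _ _
    have h5 := Nat.Coprime.dvd_of_dvd_mul_right (Nat.Coprime.pow_left _ h2) h4
    rw [← h3]
    refine Nat.le_of_dvd ?_ h5
    rcases Nat.eq_zero_or_pos a with h6 | h6
    · rw [h6] at h1
      omega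
    · exact h6
  have hsub : (25920 : ℕ).primeFactors.erase 3 ⊆ {2, 5} := by
    intro s hs
    obtain ⟨h1, h2⟩ := Finset.mem_erase.1 hs
    have hsp := Nat.prime_of_mem_primeFactors h2
    have hd : s ∣ 2 ^ 6 * (3 ^ 4 * 5) := Nat.dvd_of_mem_primeFactors h2
    rcases (Nat.Prime.dvd_mul hsp).1 hd with h3 | h3
    · have := (Nat.prime_dvd_prime_iff_eq hsp Nat.prime_two).1 (hsp.dvd_of_dvd_pow h3)
      simp [this]
    · rcases (Nat.Prime.dvd_mul hsp).1 h3 with h3 | h3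
      · exact absurd ((Nat.prime_dvd_prime_iff_eq hsp Nat.prime_three).1 (hsp.dvd_of_dvd_pow h3)) h1
      · have := (Nat.prime_dvd_prime_iff_eq hsp Nat.prime_five).1 h3
        simp [this]
  refine (Finset.sum_le_sum_of_subset hsub).trans ?_
  rw [Finset.sum_pair (by norm_num)]
  have e2 := hle 2 64 405 64 Nat.prime_two (by norm_num) (by norm_num) rfl
  have e5 := hle 5 5 5184 5 Nat.prime_five (by norm_num) (by norm_num) rfl
  have h2 := Nat.pow_le_pow_left e2 4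
  have h5 := Nat.pow_le_pow_left e5 4
  norm_num at h2 h5 ⊢
  omega

end num

open Subgroup Cfsg Module
open Cfsg.Agent.H59.EP
open Cfsg.Agent.LieClassical.CliffordFive

variable {F : Type} [Field F] [Fintype F]

theorem card_PSp_four {u : ℕ} (hF : Fintype.card F = 2 * u + 1) :
    Nat.card (PSp 2 F) = (2 * u + 1) ^ 4 * (16 * u ^ 2 * (u + 1) ^ 2 * (2 * u ^ 2 + 2 * u + 1)) := by
  have h1 := Cfsg.Agent.LieClassical.SympCount.card_symplecticGroup (F := F) 2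
  have h2 := Cfsg.Agent.LieClassical.SympCenter.card_center (F := F) (m := 2) (by norm_num)
  have h3 := Subgroup.card_eq_card_quotient_mul_card_subgroup
    (Subgroup.center (Matrix.symplecticGroup (Fin 2) F))
  change _ = Nat.card (Cfsg.PSp 2 F) * _ at h3
  rw [h1, h2, hF, Nat.add_sub_cancel, Nat.gcd_eq_left (dvd_mul_right 2 u)] at h3
  rw [Finset.prod_range_succ, Finset.prod_range_one] at h3
  have e2 : (2 * u + 1) ^ (2 * (0 + 1)) - 1 = 4 * (u * (u + 1)) := by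
    have : (2 * u + 1) ^ (2 * (0 + 1)) = 4 * (u * (u + 1)) + 1 := by ring
    omega
  have e4 : (2 * u + 1) ^ (2 * (1 + 1)) - 1 = 8 * (u * (u + 1) * (2 * u ^ 2 + 2 * u + 1)) := by
    have : (2 * u + 1) ^ (2 * (1 + 1)) = 8 * (u * (u + 1) * (2 * u ^ 2 + 2 * u + 1)) + 1 := by ring
    omega
  rw [e2, e4] at h3
  have h4 : 2 * Nat.card (PSp 2 F) = 2 * ((2 * u + 1) ^ 4 * (16 * u ^ 2 * (u + 1) ^ 2 * (2 * u ^ 2 + 2 * u + 1))) := by
    rw [mul_comm 2 (Nat.card _), ← h3]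
    ring
  omega

/-- the setting -/
theorem setting (hodd : Odd (Fintype.card F)) : ∃ p f u : ℕ, p.Prime ∧ f ≠ 0 ∧ Fintype.card F = p ^ f ∧
    Fintype.card F = 2 * u + 1 ∧ 1 ≤ u ∧ CharP F p := by
  obtain ⟨p, hc⟩ := CharP.exists F
  obtain ⟨n, hp, hF⟩ := FiniteField.card F p
  obtain ⟨u, hu⟩ := hodd
  have h1 : 1 < Fintype.card F := Fintype.one_lt_card
  exact ⟨p, n, u, hp, n.ne_zero, hF, hu, by omega, hc⟩

theorem isSimple_psp4 (hodd : Odd (Fintype.card F)) : IsSimpleGroup (PSp 2 F) := by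
  refine Cfsg.Agent.S0270.result 2 le_rfl (fun _ => ?_)
  have h1 : 1 < Fintype.card F := Fintype.one_lt_card
  obtain ⟨u, hu⟩ := hodd
  omega

theorem not_prime_psp4 (hodd : Odd (Fintype.card F)) : ¬ (Nat.card (PSp 2 F)).Prime := by
  obtain ⟨p, f, u, hp, hf, hpf, hu, hu1, hc⟩ := setting hodd
  rw [card_PSp_four hu]
  intro h
  have h1 : (2 * u + 1) ^ 4 ≠ 1 := by
    intro h
    rw [Nat.pow_eq_one] at h
    omega
  have h2 : 16 * u ^ 2 * (u + 1) ^ 2 * (2 * u ^ 2 + 2 * u + 1) ≠ 1 := by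
    intro h
    have h3 : 2 * u ^ 2 + 2 * u + 1 = 1 := Nat.dvd_one.1 (Dvd.intro_left _ h)
    omega
  exact Nat.not_prime_mul h1 h2 h

theorem not_comm_psp4 (hodd : Odd (Fintype.card F)) : ¬ ∀ a b : PSp 2 F, a * b = b * a := by
  intro hc
  apply not_prime_psp4 (F := F) hodd
  have := isSimple_psp4 (F := F) hodd
  let _ : CommGroup (PSp 2 F) := { (inferInstance : Group (PSp 2 F)) with mul_comm := hc }
  exact IsSimpleGroup.prime_card

/-- the count, with the Sylow orders -/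
theorem ncard_psp4_sum (hodd : Odd (Fintype.card F)) {p : ℕ} [Fact p.Prime] [CharP F p] (hg : TwoGen.{0})
    (hFT : ∀ (T : Type) [Group T] [Finite T], IsSimpleGroup T → (¬ ∀ a b : T, a * b = b * a) → 2 ∣ Nat.card T) :
    (LocK (PSp 2 F)).ncard ≤ Nat.card (PSp 2 F) ^ 2 +
      ((∑ s ∈ (Nat.card (PSp 2 F)).primeFactors.erase p, (s ^ (Nat.card (PSp 2 F)).factorization s) ^ 4) *
      (Nat.card (PSp 2 F) / 2) + Nat.card (PSp 2 F) ^ 2 / 60) := by
  have hsim := isSimple_psp4 (F := F) hodd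
  have hnc := not_comm_psp4 (F := F) hodd
  have h2 : (2 : F) ≠ 0 := by
    intro h
    have h3 : ringChar F = 2 := by
      have h4 : ringChar F ∣ 2 := (ringChar.spec F 2).1 (by exact_mod_cast h)
      rcases (Nat.dvd_prime Nat.prime_two).1 h4 with h5 | h5
      · exact absurd h5 (CharP.ringChar_ne_one (R := F))
      · exact h5
    have h4 := FiniteField.even_card_of_char_two h3
    obtain ⟨u, hu⟩ := hodd
    omega
  refine ncard_locK_le_of (p := p) (ncard_p_le (KFacts.RgdFiltClass.hasFilt_PSp (by norm_num))) hg ?_ ?_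
  · intro s hs hsp E hE
    refine card_elab_le hnc (rhoP_injective h2) (n := 4) finrank_five hs ?_ hE
    intro h
    have h3 : p ∣ s := (CharP.cast_eq_zero_iff F p s).1 h
    exact hsp ((Nat.prime_dvd_prime_iff_eq Fact.out hs).1 h3).symm
  · intro X hX hc hn
    exact simple_of_char h2 finrank_five.le (rhoP_injective h2) hFT hX hc hn

/-- **the count**, `q ≥ 3` -/
theorem ncard_psp4_le (hodd : Odd (Fintype.card F)) (hg : TwoGen.{0})
    (hFT : ∀ (T : Type) [Group T] [Finite T], IsSimpleGroup T → (¬ ∀ a b : T, a * b = b * a) → 2 ∣ Nat.card T) :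
    60 * Fintype.card F ^ 4 * (LocK (PSp 2 F)).ncard ≤
      (61 * Fintype.card F ^ 4 + 1920 * (Fintype.card F + 1) ^ 6) * Nat.card (PSp 2 F) ^ 2 := by
  obtain ⟨p, f, u, hp, hf, hpf, hu, hu1, hc⟩ := setting hodd
  have : Fact p.Prime := ⟨hp⟩
  have h1 := ncard_psp4_sum (F := F) hodd (p := p) hg hFT
  have hN := card_PSp_four (F := F) hu
  have hN0 : Nat.card (PSp 2 F) ≠ 0 := Nat.card_pos.ne'
  have h2 := sum_sylow_le (N := Nat.card (PSp 2 F)) (p := p) (f := f) (B := 4 * (2 * u + 1 + 1) ^ 2) hN0 hp hf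
    (by rw [← hpf, hu, hN]; exact dvd_mul_right _ _) (by
      intro s hs hsp
      refine pow_le_of_dvd hu1 hs ?_ ?_
      · rw [← hu, hpf]
        exact (Nat.Coprime.pow_right f ((Nat.coprime_primes hs hp).2 hsp))
      · rw [← hN]
        exact Nat.ordProj_dvd _ _)
  rw [← hpf, hu] at h2
  rw [hu]
  generalize Nat.card (PSp 2 F) = N at *
  generalize ∑ s ∈ N.primeFactors.erase p, (s ^ N.factorization s) ^ 4 = S at *
  generalize (LocK (PSp 2 F)).ncard = c at *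
  have h3 : 60 * c ≤ 61 * N ^ 2 + 30 * S * N := by
    have h4 : 2 * (N / 2) ≤ N := Nat.mul_div_le _ _
    have h5 : 60 * (N ^ 2 / 60) ≤ N ^ 2 := Nat.mul_div_le _ _
    have h6 : 30 * S * (2 * (N / 2)) ≤ 30 * S * N := Nat.mul_le_mul_left _ h4
    nlinarith
  calc 60 * (2 * u + 1) ^ 4 * c = (2 * u + 1) ^ 4 * (60 * c) := by ring
    _ ≤ (2 * u + 1) ^ 4 * (61 * N ^ 2 + 30 * S * N) := Nat.mul_le_mul_left _ h3
    _ = 61 * (2 * u + 1) ^ 4 * N ^ 2 + 30 * N * ((2 * u + 1) ^ 4 * S) := by ring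
    _ ≤ 61 * (2 * u + 1) ^ 4 * N ^ 2 + 30 * N * ((4 * (2 * u + 1 + 1) ^ 2) ^ 3 * N) :=
        Nat.add_le_add_left (Nat.mul_le_mul_left _ h2) _
    _ = _ := by ring

theorem card_PSp_four_le (hodd : Odd (Fintype.card F)) : 2 * Nat.card (PSp 2 F) ≤ Fintype.card F ^ 10 := by
  obtain ⟨p, f, u, hp, hf, hpf, hu, hu1, hc⟩ := setting hodd
  rw [card_PSp_four hu, hu]
  have e1 : 4 * (u * (u + 1)) ≤ (2 * u + 1) ^ 2 := by nlinarith
  have e2 : 8 * (u * (u + 1) * (2 * u ^ 2 + 2 * u + 1)) ≤ (2 * u + 1) ^ 4 := by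
    have : (2 * u + 1) ^ 4 = 8 * (u * (u + 1) * (2 * u ^ 2 + 2 * u + 1)) + 1 := by ring
    omega
  calc 2 * ((2 * u + 1) ^ 4 * (16 * u ^ 2 * (u + 1) ^ 2 * (2 * u ^ 2 + 2 * u + 1))) =
      (2 * u + 1) ^ 4 * ((4 * (u * (u + 1))) * (8 * (u * (u + 1) * (2 * u ^ 2 + 2 * u + 1)))) := by ring
    _ ≤ (2 * u + 1) ^ 4 * ((2 * u + 1) ^ 2 * (2 * u + 1) ^ 4) :=
        Nat.mul_le_mul_left _ (Nat.mul_le_mul e1 e2)
    _ = _ := by ring

/-- the count in terms of `q` -/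
theorem ncard_psp4_le' (hodd : Odd (Fintype.card F)) (hg : TwoGen.{0})
    (hFT : ∀ (T : Type) [Group T] [Finite T], IsSimpleGroup T → (¬ ∀ a b : T, a * b = b * a) → 2 ∣ Nat.card T) :
    240 * (LocK (PSp 2 F)).ncard ≤
      (61 * Fintype.card F ^ 4 + 1920 * (Fintype.card F + 1) ^ 6) * Fintype.card F ^ 16 := by
  have h1 := ncard_psp4_le (F := F) hodd hg hFT
  have h2 := card_PSp_four_le (F := F) hodd
  have hq : 0 < Fintype.card F := Fintype.card_pos
  generalize Fintype.card F = q at *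
  generalize Nat.card (PSp 2 F) = N at *
  generalize (LocK (PSp 2 F)).ncard = c at *
  have h3 : (2 * N) ^ 2 ≤ (q ^ 10) ^ 2 := Nat.pow_le_pow_left h2 2
  have h4 : q ^ 4 * (240 * c) ≤ q ^ 4 * ((61 * q ^ 4 + 1920 * (q + 1) ^ 6) * q ^ 16) := by
    calc q ^ 4 * (240 * c) = 4 * (60 * q ^ 4 * c) := by ring
      _ ≤ 4 * ((61 * q ^ 4 + 1920 * (q + 1) ^ 6) * N ^ 2) := Nat.mul_le_mul_left _ h1
      _ = (61 * q ^ 4 + 1920 * (q + 1) ^ 6) * (2 * N) ^ 2 := by ring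
      _ ≤ (61 * q ^ 4 + 1920 * (q + 1) ^ 6) * (q ^ 10) ^ 2 := Nat.mul_le_mul_left _ h3
      _ = _ := by ring
  exact Nat.le_of_mul_le_mul_left h4 (by positivity)

/-- **`|LocK PSp₄(q)| ≤ q ^ 24`**, `q ≥ 5` odd -/
theorem ncard_psp4 (hodd : Odd (Fintype.card F)) (h5 : 5 ≤ Fintype.card F) (hg : TwoGen.{0})
    (hFT : ∀ (T : Type) [Group T] [Finite T], IsSimpleGroup T → (¬ ∀ a b : T, a * b = b * a) → 2 ∣ Nat.card T) :
    (LocK (PSp 2 F)).ncard ≤ Fintype.card F ^ 24 := by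
  have h1 := ncard_psp4_le' (F := F) hodd hg hFT
  generalize Fintype.card F = q at *
  generalize (LocK (PSp 2 F)).ncard = c at *
  have h2 : 15625 * (q + 1) ^ 6 ≤ 46656 * q ^ 6 := by
    calc 15625 * (q + 1) ^ 6 = (5 * (q + 1)) ^ 6 := by ring
      _ ≤ (6 * q) ^ 6 := Nat.pow_le_pow_left (by omega) 6
      _ = _ := by ring
  have h3 : 25 * q ^ 6 ≤ q ^ 8 := by
    calc 25 * q ^ 6 = 5 ^ 2 * q ^ 6 := by norm_num
      _ ≤ q ^ 2 * q ^ 6 := Nat.mul_le_mul_right _ (Nat.pow_le_pow_left h5 2)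
      _ = _ := by ring
  have h4 : 25 * q ^ 4 ≤ q ^ 6 := by
    calc 25 * q ^ 4 = 5 ^ 2 * q ^ 4 := by norm_num
      _ ≤ q ^ 2 * q ^ 4 := Nat.mul_le_mul_right _ (Nat.pow_le_pow_left h5 2)
      _ = _ := by ring
  have h5' : 61 * q ^ 4 + 1920 * (q + 1) ^ 6 ≤ 240 * q ^ 8 := by omega
  have h6 : 240 * c ≤ 240 * q ^ 24 := by
    calc 240 * c ≤ (61 * q ^ 4 + 1920 * (q + 1) ^ 6) * q ^ 16 := h1
      _ ≤ (240 * q ^ 8) * q ^ 16 := Nat.mul_le_mul_right _ h5'
      _ = _ := by ring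
  omega

/-- `q = 3` -/
theorem ncard_psp4_three (h3 : Fintype.card F = 3) (hg : TwoGen.{0})
    (hFT : ∀ (T : Type) [Group T] [Finite T], IsSimpleGroup T → (¬ ∀ a b : T, a * b = b * a) → 2 ∣ Nat.card T) :
    (LocK (PSp 2 F)).ncard ≤ 218123863200 := by
  have hodd : Odd (Fintype.card F) := by rw [h3]; decide
  have hN := card_PSp_four (F := F) (u := 1) (by rw [h3])
  norm_num at hN
  obtain ⟨p, f, u, hp, hf, hpf, hu, hu1, hc⟩ := setting hodd
  have : Fact p.Prime := ⟨hp⟩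
  have hp3 : p = 3 := by
    have h4 : p ∣ 3 := by
      rw [← h3, hpf]
      exact dvd_pow_self p hf
    exact (Nat.prime_dvd_prime_iff_eq hp Nat.prime_three).1 h4
  have h1 := ncard_psp4_sum (F := F) hodd (p := p) hg hFT
  rw [hN, hp3] at h1
  refine h1.trans ?_
  have h5 := sum_three
  generalize ∑ s ∈ (25920 : ℕ).primeFactors.erase 3, (s ^ (25920 : ℕ).factorization s) ^ 4 = S at h5 ⊢
  norm_num
  omega

end Cfsg.Agent.H273.EPU
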