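import Cfsg.Agent.H273.EPU.Soc
import Cfsg.Agent.KFacts.RgdFilt
import Cfsg.Agent.KFacts.RgdCharP
import Cfsg.Agent.Nodes.NormX
import Cfsg.Agent.Tits.ExtAux

/-!
# S3499, the members of `LocK L` with `O_p ≠ 1` for `L` of Lie type in characteristic `p` (helper273)

`ncard_p_le` : `HasFilt p L`: there are at most `|L| ^ 2` subgroups `K ∈ LocK L` with `O_p(K) ≠ 1` (they are parabolic
subgroups); `ncard_p_le_pow` : at most `2 ^ l * |L|`, `l` = rank.
-/

set_option autoImplicit false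
set_option linter.unusedSectionVars false

namespace Cfsg.Agent.H273.EPU

open CoxeterSystem Subgroup Cfsg Cfsg.Agent.ChevalleyStructure.CoxeterGeom Cfsg.Agent.Tits.Roots
open Cfsg.Agent.Tits.Core Cfsg.Agent.Tits.Exchange Cfsg.Agent.Nodes.Reps Cfsg.Agent.Nodes.BNOf
open Cfsg.Agent.Nodes.StabComb Cfsg.Agent.Nodes.Bruhat Cfsg.Agent.Nodes.LeviDec

/-- a `p`-subgroup `V ≥ Q` with `V ∩ N(Q) ≤ Q` is `Q` -/
theorem eq_of_inf_normalizer_le {Y : Type*} [Group Y] [Finite Y] {p : ℕ} [Fact p.Prime] {Q V : Subgroup Y}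
    (hQV : Q ≤ V) (hV : IsPGroup p V) (h1 : V ⊓ normalizer (Q : Set Y) ≤ Q) : V = Q := by
  by_contra hne
  have hnil : Group.IsNilpotent V := hV.isNilpotent
  have h2 : Q.subgroupOf V < ⊤ := by
    rw [lt_top_iff_ne_top]
    intro h3
    exact hne (le_antisymm (subgroupOf_eq_top.1 h3) hQV)
  have h3 := Group.normalizerCondition_of_isNilpotent (G := V) _ h2
  rw [← subgroupOf_normalizer_eq hQV] at h3
  obtain ⟨⟨x, hxV⟩, hx1, hx2⟩ := SetLike.exists_of_lt h3
  rw [mem_subgroupOf] at hx1 hx2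
  exact hx2 (h1 ⟨hxV, hx1⟩)

/-- the members of `LocK` are the normalisers of their cores -/
theorem normalizer_core {Y : Type*} [Group Y] {p : ℕ} {K : Subgroup Y} (hK : K ∈ LocK Y) (hp : pCore p K ≠ ⊥) :
    normalizer (((pCore p K).map K.subtype : Subgroup Y) : Set Y) = K := by
  apply le_antisymm
  · exact hK.2 _ (Cfsg.Agent.Lib.Cores.pCore_characteristic p) hp
  · intro k hk
    have hn := Cfsg.Agent.Lib.Cores.pCore_normal (G := K) p
    have key : ∀ m ∈ K, ∀ y ∈ (pCore p K).map K.subtype, m * y * m⁻¹ ∈ (pCore p K).map K.subtype := by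
      rintro m hm _ ⟨y, hy, rfl⟩
      exact ⟨_, hn.conj_mem y hy ⟨m, hm⟩, rfl⟩
    rw [mem_normalizer_iff]
    intro y
    refine ⟨key k hk y, fun h => ?_⟩
    have h1 := key k⁻¹ (K.inv_mem hk) _ h
    have e : k⁻¹ * (k * y * k⁻¹) * k⁻¹⁻¹ = y := by group
    rwa [e] at h1

section RGD

variable {I W Y : Type*} [Fintype I] [DecidableEq I] [Group W] [Group Y] {M : CoxeterMatrix I}
  {cs : CoxeterSystem M W} {A : I → I → ℤ} {h : IsCartan M A} {p : ℕ} {T : Subgroup Y} {n : I → Y}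
  {X : (I → ℤ) → Subgroup Y}

/-- the members of `LocK` with `O_p ≠ 1` are parabolic subgroups -/
theorem exists_PJ [Finite W] [Finite Y] [Fact p.Prime] {R : RGD cs h p T n X}
    {F : (I → ℤ) → ℝ → Subgroup Y} (hF : KFacts.RgdBorelTits.Filt R F) (hG : Nodes.RGDLib.G1 cs h X = ⊤)
    {K : Subgroup Y} (hK : K ∈ LocK Y) (hp : pCore p K ≠ ⊥) : ∃ (g : Y) (J : Set I), K = cj g (PJ cs h T X J) := by
  set Q : Subgroup Y := (pCore p K).map K.subtype with hQd
  have hQK : Q ≤ K := by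
    rintro _ ⟨y, _, rfl⟩
    exact y.2
  have hQ : IsPGroup p Q := (Cfsg.Agent.Lib.Cores.pCore_isPGroup p).map _
  have hQ1 : Q ≠ ⊥ := by
    intro e
    rw [hQd, Subgroup.map_eq_bot_iff_of_injective _ K.subtype_injective] at e
    exact hp e
  have hN : normalizer (Q : Set Y) = K := normalizer_core hK hp
  obtain ⟨g, J, hJ, h1, h2⟩ := KFacts.RgdFilt.borel_tits_of_filt hF hG hQ hQ1
  have hV : IsPGroup p (cj g (VJ cs h X J)) := by
    unfold cj
    exact (KFacts.RgdCharP.isPGroup_VJ R J).map _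
  have h3 : cj g (PJ cs h T X J) ≤ normalizer ((cj g (VJ cs h X J) : Subgroup Y) : Set Y) := by
    rw [Nodes.NormX.normalizer_cj]
    exact Subgroup.map_mono (PJ_le_normalizer_VJ R J)
  have h4 : cj g (VJ cs h X J) = Q := by
    refine eq_of_inf_normalizer_le h1 hV ?_
    rw [show normalizer (Q : Set Y) = K from hN]
    -- `V ⊓ K` is a normal `p`-subgroup of `K`
    have hn : ((cj g (VJ cs h X J)).subgroupOf K).Normal := by
      constructor
      intro y hy k
      rw [mem_subgroupOf] at hy ⊢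
      have hkN : (k : Y) ∈ normalizer (Q : Set Y) := by
        rw [hN]
        exact k.2
      have hk : (k : Y) ∈ normalizer ((cj g (VJ cs h X J) : Subgroup Y) : Set Y) := h3 (h2 hkN)
      exact (mem_normalizer_iff.1 hk _).1 hy
    have hpg : IsPGroup p ((cj g (VJ cs h X J)).subgroupOf K) := by
      intro y
      obtain ⟨m, hm⟩ := hV ⟨y.1.1, y.2⟩
      refine ⟨m, Subtype.ext (Subtype.ext ?_)⟩
      have := congrArg Subtype.val hm
      simpa using this
    intro y hy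
    have h5 : (⟨y, hy.2⟩ : K) ∈ pCore p K := by
      rw [Cfsg.Agent.Lib.Cores.pCore_def]
      exact (le_sSup (show (cj g (VJ cs h X J)).subgroupOf K ∈ {N : Subgroup K | N.Normal ∧ IsPGroup p N} from
        ⟨hn, hpg⟩)) hy.1
    exact ⟨_, h5, rfl⟩
  refine ⟨g, J, le_antisymm ?_ ?_⟩
  · rw [← hN]
    exact h2
  · rw [h4, hN] at h3
    exact h3

theorem ncard_p_le_pow [Finite W] [Finite Y] [Fact p.Prime] {R : RGD cs h p T n X}
    {F : (I → ℤ) → ℝ → Subgroup Y} (hF : KFacts.RgdBorelTits.Filt R F) (hG : Nodes.RGDLib.G1 cs h X = ⊤) :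
    {K ∈ LocK Y | pCore p K ≠ ⊥}.ncard ≤ Nat.card Y * 2 ^ Fintype.card I := by
  classical
  have h1 : {K ∈ LocK Y | pCore p K ≠ ⊥} ⊆ Set.range fun z : Y × Set I => cj z.1 (PJ cs h T X z.2) := by
    rintro K ⟨hK, hKp⟩
    obtain ⟨g, J, e⟩ := exists_PJ hF hG hK hKp
    exact ⟨(g, J), e.symm⟩
  refine (Set.ncard_le_ncard h1 (Set.toFinite _)).trans ?_
  rw [← Set.image_univ]
  refine (Set.ncard_image_le (Set.toFinite _)).trans ?_
  rw [Set.ncard_univ, Nat.card_prod, Nat.card_eq_fintype_card (α := Set I), Fintype.card_set]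

theorem n_mem_PJ_iff [Finite W] (R : RGD cs h p T n X) {J : Set I} {i : I} : n i ∈ PJ cs h T X J ↔ i ∈ J := by
  rw [cell_mem_PJ_iff R (cell_of_rp (rp_simple cs R.nsys i))]
  exact ⟨Cfsg.Agent.Tits.Ext.mem_of_simple_mem_WJ fun i j hij => by
    by_contra hne
    exact RGD.simple_ne (h := h) hne hij, fun hi => Cfsg.Agent.Tits.Exchange.simple_mem_WJ cs hi⟩

end RGD

/-- the rank is at most `log |Y|` -/
theorem two_pow_le {l : ℕ} {W Y : Type*} [Group W] [Group Y] {M : CoxeterMatrix (Fin l)}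
    {cs : CoxeterSystem M W} {A : Fin l → Fin l → ℤ} {h : IsCartan M A} {p : ℕ} {T : Subgroup Y} {n : Fin l → Y}
    {X : (Fin l → ℤ) → Subgroup Y} [Finite W] [Finite Y] (R : RGD cs h p T n X) : 2 ^ l ≤ Nat.card Y := by
  have key : ∀ k ≤ l, 2 ^ k ≤ Nat.card (PJ cs h T X {i : Fin l | (i : ℕ) < k}) := by
    intro k
    induction k with
    | zero => exact fun _ => Nat.card_pos
    | succ k ih =>
      intro hk
      have h1 := ih (by omega)
      have hle : PJ cs h T X {i : Fin l | (i : ℕ) < k} ≤ PJ cs h T X {i : Fin l | (i : ℕ) < k + 1} := by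
        intro g hg
        rw [mem_PJ_iff_cell R] at hg ⊢
        obtain ⟨w, hw, hc⟩ := hg
        refine ⟨w, Cfsg.Agent.Tits.Exchange.WJ_mono cs ?_ hw, hc⟩
        intro i hi
        exact Nat.lt_succ_of_lt hi
      have hne : PJ cs h T X {i : Fin l | (i : ℕ) < k} ≠ PJ cs h T X {i : Fin l | (i : ℕ) < k + 1} := by
        intro e
        have h2 : n ⟨k, by omega⟩ ∈ PJ cs h T X {i : Fin l | (i : ℕ) < k + 1} :=
          (n_mem_PJ_iff R).2 (Nat.lt_succ_self k)
        rw [← e, n_mem_PJ_iff R] at h2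
        exact lt_irrefl k h2
      obtain ⟨c, hc⟩ := Subgroup.card_dvd_of_le hle
      have hc2 : 2 ≤ c := by
        by_contra hlt
        have h5 : c = 0 ∨ c = 1 := by omega
        rcases h5 with rfl | rfl
        · rw [mul_zero] at hc
          exact Nat.card_pos.ne' hc
        · rw [mul_one] at hc
          exact hne (Subgroup.eq_of_le_of_card_ge hle hc.le)
      rw [hc, pow_succ]
      exact Nat.mul_le_mul h1 hc2
  exact (key l le_rfl).trans (Nat.card_le_card_of_injective _ (Subgroup.subtype_injective _))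

/-- **the members of `LocK L` with `O_p ≠ 1`**, `L` of Lie type in characteristic `p` -/
theorem ncard_p_le {Y : Type*} [Group Y] [Finite Y] {p : ℕ} [Fact p.Prime] (hY : KFacts.RgdFilt.HasFilt p Y) :
    {K ∈ LocK Y | pCore p K ≠ ⊥}.ncard ≤ Nat.card Y ^ 2 := by
  obtain ⟨l, M, A, h, T, n, X, R, F, hW, hG, hF⟩ := hY
  refine (ncard_p_le_pow hF hG).trans ?_
  rw [Fintype.card_fin, pow_two]
  exact Nat.mul_le_mul_left _ (two_pow_le R)

end Cfsg.Agent.H273.EPU
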