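import Cfsg.Agent.H839.EP.AltFrame
import Cfsg.Agent.H59.EP.UB

/-!
# S3499, the number of two-point stabilisers, counted inside the socle (helper273)

`LocK L` : the subgroups `K ≠ 1` of `L` with `N_L(Y) ≤ K` for all characteristic subgroups `Y ≠ 1` of `K`.
`ncard_le_locK` : `EPT A Γ`, `N = soc(A)` simple, `A/N` abelian: there are at most `|LocK N|` groups `A ∩ A^x`.
-/

set_option autoImplicit false
set_option linter.unusedSectionVars false

namespace Cfsg.Agent.H273.EPU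

open Subgroup Cfsg.Agent.H284 Cfsg.Agent.H839.EP

/-- the subgroups `K ≠ 1` containing the normalisers of all their characteristic subgroups `≠ 1` -/
def LocK (L : Type*) [Group L] : Set (Subgroup L) :=
  {K | K ≠ ⊥ ∧ ∀ Y : Subgroup K, Y.Characteristic → Y ≠ ⊥ → normalizer ((Y.map K.subtype : Subgroup L) : Set L) ≤ K}

theorem map_mem_locK {L L' : Type*} [Group L] [Group L'] (e : L ≃* L') {K : Subgroup L} (hK : K ∈ LocK L) :
    K.map e.toMonoidHom ∈ LocK L' := by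
  refine ⟨?_, ?_⟩
  · intro h
    rw [Subgroup.map_eq_bot_iff_of_injective _ e.injective] at h
    exact hK.1 h
  · intro Y hY hY0
    let E : K ≃* K.map e.toMonoidHom := K.equivMapOfInjective _ e.injective
    have hch := Cfsg.Agent.H59.EP.char_map E.symm hY
    have hne : Y.map E.symm.toMonoidHom ≠ ⊥ := by
      intro h
      rw [Subgroup.map_eq_bot_iff_of_injective _ E.symm.injective] at h
      exact hY0 h
    have h1 := hK.2 _ hch hne
    have h2 : (Y.map (K.map e.toMonoidHom).subtype : Subgroup L') =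
        ((Y.map E.symm.toMonoidHom).map K.subtype).map e.toMonoidHom := by
      rw [Subgroup.map_map, Subgroup.map_map]
      congr 1
      ext y
      show ((y : K.map e.toMonoidHom) : L') = e ((E.symm y : K) : L)
      have h3 : E (E.symm y) = y := E.apply_symm_apply y
      exact (congrArg Subtype.val h3).symm
    rw [h2, ← Subgroup.map_equiv_normalizer_eq _ e]
    exact Subgroup.map_mono h1

theorem ncard_locK_le {L L' : Type*} [Group L] [Group L'] [Finite L'] (e : L ≃* L') :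
    (LocK L).ncard ≤ (LocK L').ncard := by
  refine Set.ncard_le_ncard_of_injOn (fun K => K.map e.toMonoidHom) (fun K hK => map_mem_locK e hK) ?_ (Set.toFinite _)
  intro K _ K' _ h
  exact Subgroup.map_injective e.injective h

variable {Q : Type*} [Group Q] [Finite Q] {A N : Subgroup Q} {Γ : Subgroup (MulAut Q)}

theorem inf_ne_bot (h : EPT A Γ) (hS : Soc A N) (hs : IsSimpleGroup N)
    (hnc : ¬ ∀ a ∈ N, ∀ b ∈ N, a * b = b * a) (hab : ∀ a ∈ A, ∀ b ∈ A, a * b * a⁻¹ * b⁻¹ ∈ N) {x : Q} (hx : x ∉ A) :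
    A ⊓ cj x A ⊓ N ≠ ⊥ := by
  intro h0
  obtain ⟨K, hKA, hKi, hK0, hKc⟩ := h.abM0 x hx (by
    intro a ha b hb
    have h1 : a * b * a⁻¹ * b⁻¹ ∈ A ⊓ cj x A ⊓ N :=
      ⟨(A ⊓ cj x A).mul_mem ((A ⊓ cj x A).mul_mem ((A ⊓ cj x A).mul_mem ha hb) ((A ⊓ cj x A).inv_mem ha))
        ((A ⊓ cj x A).inv_mem hb), hab a (mem_inf.1 ha).1 b (mem_inf.1 hb).1⟩
    rw [h0, mem_bot] at h1
    have h2 : a * b = a * b * a⁻¹ * b⁻¹ * (b * a) := by group
    rw [h2, h1, one_mul])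
  apply hK0
  exact Cfsg.Agent.H59.EP.noAb_of_soc hS.le hS.nor hs hnc hS.cen K hKA
    (fun a ha k hk => hKi (MulAut.conj a) ((h.conj a).2 ha) k hk) hKc

theorem mem_of_norm (h : EPT A Γ) {x : Q} (hx : x ∉ A) {K : Subgroup Q} (hK : K ≤ A ⊓ cj x A)
    (hi : ∀ σ ∈ Γ, x⁻¹ * σ x ∈ A → ∀ k ∈ K, σ k ∈ K) (hne : K ≠ ⊥) {a : Q} (ha : a ∈ A)
    (haK : ∀ k ∈ K, a * k * a⁻¹ ∈ K) : a ∈ A ⊓ cj x A :=
  ⟨ha, (h.conj_stab ha).1 (h.norm x hx K hK hi hne _ ((h.conj a).2 ha) haK)⟩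

theorem mem_of_char (h : EPT A Γ) (hS : Soc A N) (hinv : ∀ σ ∈ Γ, ∀ x ∈ N, σ x ∈ N) {x : Q} (hx : x ∉ A)
    {K : Subgroup N} (hK : ∀ y : N, y ∈ K ↔ (y : Q) ∈ A ⊓ cj x A) (Y : Subgroup K) (hY : Y.Characteristic)
    (hY0 : Y ≠ ⊥) {n : N} (hn : n ∈ normalizer ((Y.map K.subtype : Subgroup N) : Set N)) : n ∈ K := by
  rw [hK]
  refine mem_of_norm h hx (K := (Y.map K.subtype).map N.subtype) ?_ ?_ ?_ (hS.le n.2) ?_
  · rintro _ ⟨_, ⟨y, _, rfl⟩, rfl⟩
    exact (hK _).1 y.2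
  · rintro σ hσ hσx _ ⟨_, ⟨y, hy, rfl⟩, rfl⟩
    have hs' : ∀ y : K, (⟨σ ((y : N) : Q), hinv σ hσ _ (y : N).2⟩ : N) ∈ K := fun y =>
      (hK _).2 (h.stab_M0 hσ hσx ((hK _).1 y.2))
    let f : K →* K :=
      { toFun := fun y => ⟨⟨σ ((y : N) : Q), hinv σ hσ _ (y : N).2⟩, hs' y⟩
        map_one' := Subtype.ext (Subtype.ext (map_one σ))
        map_mul' := fun a b => Subtype.ext (Subtype.ext (map_mul σ _ _)) }
    have hf : Function.Injective f := by
      intro a b e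
      have e' : σ ((a : N) : Q) = σ ((b : N) : Q) := congrArg (fun z : K => ((z : N) : Q)) e
      exact Subtype.ext (Subtype.ext (σ.injective e'))
    let τ : MulAut K := MulEquiv.ofBijective f (Finite.injective_iff_bijective.1 hf)
    have hτ : Y.map τ.toMonoidHom = Y := Subgroup.characteristic_iff_map_eq.1 hY τ
    have h1 : τ y ∈ Y := by
      rw [← hτ]
      exact ⟨y, hy, rfl⟩
    exact ⟨_, ⟨τ y, h1, rfl⟩, rfl⟩
  · intro h0
    rw [Subgroup.map_eq_bot_iff_of_injective _ N.subtype_injective,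
      Subgroup.map_eq_bot_iff_of_injective _ K.subtype_injective] at h0
    exact hY0 h0
  · rintro _ ⟨y, hy, rfl⟩
    exact ⟨_, (mem_normalizer_iff.1 hn y).1 hy, rfl⟩

/-- **the two-point stabilisers, counted in the socle** -/
theorem ncard_le_locK (h : EPT A Γ) (hS : Soc A N) (hs : IsSimpleGroup N)
    (hnc : ¬ ∀ a ∈ N, ∀ b ∈ N, a * b = b * a) (hab : ∀ a ∈ A, ∀ b ∈ A, a * b * a⁻¹ * b⁻¹ ∈ N) :
    {M : Subgroup Q | ∃ x, x ∉ A ∧ M = A ⊓ cj x A}.ncard ≤ (LocK N).ncard := by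
  have hinv := hS.inv h hs
  have hMN : ∀ x : Q, ∀ σ ∈ Γ, x⁻¹ * σ x ∈ A → ∀ k ∈ A ⊓ cj x A ⊓ N, σ k ∈ A ⊓ cj x A ⊓ N :=
    fun x σ hσ hσx k hk => ⟨h.stab_M0 hσ hσx (mem_inf.1 hk).1, hinv σ hσ k (mem_inf.1 hk).2⟩
  refine Set.ncard_le_ncard_of_injOn (fun M => M.subgroupOf N) ?_ ?_ (Set.toFinite _)
  · rintro _ ⟨x, hx, rfl⟩
    refine ⟨?_, ?_⟩
    · intro h0
      apply inf_ne_bot h hS hs hnc hab hx
      rw [Subgroup.subgroupOf_eq_bot, disjoint_iff] at h0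
      exact h0
    · intro Y hY hY0 n hn
      exact mem_of_char h hS hinv hx (fun y => Iff.rfl) Y hY hY0 hn
  · have key : ∀ x y, x ∉ A → y ∉ A → (A ⊓ cj x A).subgroupOf N = (A ⊓ cj y A).subgroupOf N →
        A ⊓ cj x A ≤ A ⊓ cj y A := by
      intro x y hx hy he m hm
      have he' : A ⊓ cj x A ⊓ N = A ⊓ cj y A ⊓ N := by
        have h1 := congrArg (Subgroup.map N.subtype) he
        rwa [Subgroup.subgroupOf_map_subtype, Subgroup.subgroupOf_map_subtype] at h1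
      refine mem_of_norm h hy (K := A ⊓ cj y A ⊓ N) inf_le_left (hMN y) (inf_ne_bot h hS hs hnc hab hy)
        (mem_inf.1 hm).1 ?_
      intro k hk
      rw [← he'] at hk ⊢
      exact ⟨(A ⊓ cj x A).mul_mem ((A ⊓ cj x A).mul_mem hm (mem_inf.1 hk).1) ((A ⊓ cj x A).inv_mem hm),
        hS.nor m (mem_inf.1 hm).1 k (mem_inf.1 hk).2⟩
    rintro _ ⟨x, hx, rfl⟩ _ ⟨y, hy, rfl⟩ e
    exact le_antisymm (key x y hx hy e) (key y x hy hx e.symm)

end Cfsg.Agent.H273.EPU
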